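import Groth.Agent.Calg46.FibFlatMod.Key
import Groth.Agent.LocalCrit.Fibre

/-!
# The fibre criterion over a Noetherian model
-/

set_option autoImplicit false
set_option linter.style.haveILetI false

universe u

open TensorProduct IsLocalRing

namespace Groth.Agent.Calg46.FibFlatMod

/-- A module that kills a maximal ideal of the intermediate ring only trivially: `B` is flat over the base
when a finite nonzero module over a local `B`-algebra is flat over both. -/
theorem flat_of_tower {R B C N : Type u} [CommRing R] [CommRing B] [IsLocalRing B] [CommRing C] [IsLocalRing C]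
    [Algebra R B] [Algebra B C] [IsLocalHom (algebraMap B C)]
    [AddCommGroup N] [Module C N] [Module B N] [IsScalarTower B C N] [Module R N] [IsScalarTower R B N]
    [Module.Finite C N] [Nontrivial N] [Module.Flat R N] [Module.Flat B N] : Module.Flat R B := by
  have : Module.FaithfullyFlat B N := by
    refine ⟨fun m hm htop => ?_⟩
    obtain rfl := IsLocalRing.eq_maximalIdeal hm
    have h2 : (⊤ : Submodule C N) ≤ maximalIdeal C • ⊤ := by
      intro x _
      have hx : x ∈ maximalIdeal B • (⊤ : Submodule B N) := by rw [htop]; trivial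
      induction hx using Submodule.smul_induction_on' with
      | smul a ha y _ =>
        rw [← IsScalarTower.algebraMap_smul C a y]
        exact Submodule.smul_mem_smul (by simpa using ha) Submodule.mem_top
      | add p _ q _ hp hq => exact add_mem (hp trivial) (hq trivial)
    have : (⊤ : Submodule C N) = ⊥ :=
      Submodule.eq_bot_of_le_smul_of_le_jacobson_bot _ _ Module.Finite.fg_top h2
        (IsLocalRing.maximalIdeal_le_jacobson _)
    exact not_subsingleton N ((Submodule.subsingleton_iff C).mp (subsingleton_of_bot_eq_top this.symm))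
  rw [Module.Flat.iff_lTensor_preserves_injective_linearMap]
  intro Q Q' _ _ _ _ f hf
  let g : B ⊗[R] Q →ₗ[B] B ⊗[R] Q' := f.baseChange B
  suffices Function.Injective g from this
  refine (Module.FaithfullyFlat.lTensor_injective_iff_injective B N g).mp ?_
  let e : ∀ (P : Type u) [AddCommGroup P] [Module R P], N ⊗[B] (B ⊗[R] P) ≃ₗ[B] N ⊗[R] P :=
    fun P _ _ => AlgebraTensorModule.cancelBaseChange R B B N P
  have h2 : ∀ x, e Q' (g.lTensor N x) = f.lTensor N (e Q x) := by
    intro x
    induction x using TensorProduct.induction_on with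
    | zero => simp
    | add x y hx hy => simp only [map_add, hx, hy]
    | tmul m y =>
      induction y using TensorProduct.induction_on with
      | zero => simp
      | add y z hy hz => simp only [tmul_add, map_add, hy, hz]
      | tmul c n => simp [e, g]
  intro x y hxy
  have := congrArg (e Q') hxy
  rw [h2, h2] at this
  exact (e Q).injective (Module.Flat.lTensor_preserves_injective_linearMap f hf this)

set_option maxHeartbeats 1000000 in
/-- Flat on the model, flat on the closed fibre: flat. -/
theorem flat_of_model {R₁ R P₁ P T₁ T S S' M₁ M : Type u} [CommRing R₁] [CommRing R] [IsLocalRing R]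
    [CommRing P₁] [IsNoetherianRing P₁] [CommRing P] [CommRing T₁] [IsNoetherianRing T₁] [CommRing T]
    [CommRing S] [IsLocalRing S] [CommRing S'] [IsLocalRing S']
    [Algebra R₁ R] [Algebra R₁ P₁] [Algebra R₁ T₁] [Algebra P₁ T₁] [IsScalarTower R₁ P₁ T₁]
    [Algebra R P] [Algebra R₁ P] [Algebra P₁ P] [IsScalarTower R₁ R P] [IsScalarTower R₁ P₁ P]
    [Algebra.IsPushout R₁ R P₁ P]
    [Algebra R T] [Algebra R₁ T] [Algebra T₁ T] [IsScalarTower R₁ R T] [IsScalarTower R₁ T₁ T]
    [Algebra.IsPushout R₁ R T₁ T]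
    [Algebra P T] [IsScalarTower R P T] [Algebra P₁ T] [IsScalarTower P₁ P T] [IsScalarTower P₁ T₁ T]
    (q : Ideal P) [q.IsPrime] [Algebra P S] [IsLocalization.AtPrime S q] [Algebra R S] [IsScalarTower R P S]
    [Algebra P₁ S] [IsScalarTower P₁ P S]
    [Algebra T S'] [Algebra R S'] [IsScalarTower R T S'] [Algebra T₁ S'] [IsScalarTower T₁ T S'] [Module.Flat T S']
    [IsLocalHom (algebraMap R S')]
    [Algebra S S'] [IsLocalHom (algebraMap S S')] [IsScalarTower R S S'] [Algebra P S'] [IsScalarTower P S S']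
    [IsScalarTower P T S'] [Algebra P₁ S'] [IsScalarTower P₁ T₁ S'] [IsScalarTower P₁ S S']
    [AddCommGroup M₁] [Module T₁ M₁] [Module.Finite T₁ M₁] [Module P₁ M₁] [IsScalarTower P₁ T₁ M₁]
    [Module R₁ M₁] [IsScalarTower R₁ T₁ M₁] [Module.Flat R₁ M₁]
    [AddCommGroup M] [Nontrivial M] [Module S' M] [Module T₁ M] [IsScalarTower T₁ S' M] [Module S M]
    [IsScalarTower S S' M] [Module R M] [IsScalarTower R S' M] [IsScalarTower R S M] [Module P₁ M]
    [IsScalarTower P₁ S' M] [IsScalarTower P₁ S M] [Module P M] [IsScalarTower P S' M] [IsScalarTower P S M]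
    (ι : M₁ →ₗ[T₁] M) (hι : IsBaseChange S' ι)
    (hfib : LocalCrit.KeepsInjective ((maximalIdeal R).map (algebraMap R S)) M) :
    Module.Flat R S ∧ Module.Flat S M := by
  haveI hflatS : Module.Flat P S := IsLocalization.flat S q.primeCompl
  let Q₁ : Ideal T₁ := (maximalIdeal S').comap (algebraMap T₁ S')
  let q₁ : Ideal P₁ := (maximalIdeal S).comap (algebraMap P₁ S)
  have hqQ : q₁ = Q₁.comap (algebraMap P₁ T₁) := by
    rw [Ideal.comap_comap, ← IsScalarTower.algebraMap_eq P₁ T₁ S', IsScalarTower.algebraMap_eq P₁ S S',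
      ← Ideal.comap_comap, IsLocalRing.maximalIdeal_comap]
  haveI : Q₁.LiesOver q₁ := ⟨hqQ⟩
  let B := Localization.AtPrime q₁
  let C := Localization.AtPrime Q₁
  letI : Algebra B C := Localization.AtPrime.algebraOfLiesOver q₁ Q₁
  haveI : IsLocalHom (algebraMap B C) :=
    Localization.isLocalHom_localRingHom q₁ Q₁ (algebraMap P₁ T₁) hqQ
  haveI : IsScalarTower P₁ B C := IsScalarTower.of_algebraMap_eq fun x =>
    (IsScalarTower.algebraMap_apply P₁ T₁ C x).trans (Localization.localRingHom_to_map _ _ _ _ x).symm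
  haveI : IsScalarTower R₁ P₁ C := IsScalarTower.of_algebraMap_eq fun x => by
    rw [IsScalarTower.algebraMap_apply R₁ T₁ C, IsScalarTower.algebraMap_apply R₁ P₁ T₁,
      ← IsScalarTower.algebraMap_apply P₁ T₁ C]
  haveI : IsScalarTower R₁ B C := IsScalarTower.of_algebraMap_eq fun x => by
    rw [IsScalarTower.algebraMap_apply R₁ P₁ B, ← IsScalarTower.algebraMap_apply P₁ B C,
      ← IsScalarTower.algebraMap_apply R₁ P₁ C]
  letI : Algebra B S := (IsLocalization.lift (M := q₁.primeCompl) (g := algebraMap P₁ S)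
    fun y => not_not.1 fun h => y.2 ((mem_maximalIdeal _).2 h)).toAlgebra
  haveI : IsScalarTower P₁ B S := IsScalarTower.of_algebraMap_eq fun x => (IsLocalization.lift_eq _ x).symm
  letI : Algebra C S' := (IsLocalization.lift (M := Q₁.primeCompl) (g := algebraMap T₁ S')
    fun y => not_not.1 fun h => y.2 ((mem_maximalIdeal _).2 h)).toAlgebra
  haveI : IsScalarTower T₁ C S' := IsScalarTower.of_algebraMap_eq fun x => (IsLocalization.lift_eq _ x).symm
  haveI : IsScalarTower P₁ B (C ⊗[T₁] M₁) := inferInstance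
  haveI : IsScalarTower R₁ B (C ⊗[T₁] M₁) := inferInstance
  -- the module over the localized model
  let N := C ⊗[T₁] M₁
  haveI : Module.Flat T₁ C := IsLocalization.flat C Q₁.primeCompl
  haveI hN₁ : Module.Flat R₁ N := flat_tensor_of_flat R₁ C M₁
  let 𝔟 : Ideal B := ((maximalIdeal R).comap (algebraMap R₁ R)).map (algebraMap R₁ B)
  have h𝔟 : 𝔟 ≤ maximalIdeal B := by
    rw [← IsLocalization.AtPrime.map_eq_maximalIdeal q₁ B,
      show 𝔟 = (((maximalIdeal R).comap (algebraMap R₁ R)).map (algebraMap R₁ P₁)).map (algebraMap P₁ B) by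
        rw [Ideal.map_map, ← IsScalarTower.algebraMap_eq R₁ P₁ B]]
    refine Ideal.map_mono (Ideal.map_le_iff_le_comap.2 fun r hr => ?_)
    show algebraMap P₁ S (algebraMap R₁ P₁ r) ∈ maximalIdeal S
    rw [IsScalarTower.algebraMap_apply P₁ P S, ← IsScalarTower.algebraMap_apply R₁ P₁ P,
      IsScalarTower.algebraMap_apply R₁ R P, ← IsScalarTower.algebraMap_apply R P S]
    haveI : IsLocalHom (algebraMap R S) := ⟨fun a ha => by
      refine isUnit_of_map_unit (algebraMap R S') a ?_
      rw [IsScalarTower.algebraMap_apply R S S']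
      exact ha.map _⟩
    exact map_maximalIdeal_le (algebraMap R S) (Ideal.mem_map_of_mem _ hr)
  have hK : LocalCrit.KeepsInjective 𝔟 N := by
    intro X Y _ _ _ _ g hX hY hg
    letI : Module P₁ X := Module.compHom X (algebraMap P₁ B)
    letI : Module P₁ Y := Module.compHom Y (algebraMap P₁ B)
    haveI : IsScalarTower P₁ B X := .of_algebraMap_smul fun _ _ => rfl
    haveI : IsScalarTower P₁ B Y := .of_algebraMap_smul fun _ _ => rfl
    let g₁ : X →ₗ[P₁] Y := g.restrictScalars P₁
    have hX' : ∀ r ∈ (maximalIdeal R).comap (algebraMap R₁ R), ∀ x : X, algebraMap R₁ P₁ r • x = 0 := fun r hr x => by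
      rw [← algebraMap_smul B, ← IsScalarTower.algebraMap_apply R₁ P₁ B]
      exact hX (x := x) (a := ⟨_, Ideal.mem_map_of_mem _ hr⟩)
    have hY' : ∀ r ∈ (maximalIdeal R).comap (algebraMap R₁ R), ∀ y : Y, algebraMap R₁ P₁ r • y = 0 := fun r hr y => by
      rw [← algebraMap_smul B, ← IsScalarTower.algebraMap_apply R₁ P₁ B]
      exact hY (x := y) (a := ⟨_, Ideal.mem_map_of_mem _ hr⟩)
    let h : M₁ ⊗[P₁] X →ₗ[T₁] M₁ ⊗[P₁] Y := AlgebraTensorModule.lTensor T₁ M₁ g₁
    have hh : Function.Injective (h.lTensor C) := by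
      rw [injective_iff_map_eq_zero]
      intro w hw
      obtain ⟨⟨z, s⟩, hs⟩ := IsLocalizedModule.surj Q₁.primeCompl (TensorProduct.mk T₁ C (M₁ ⊗[P₁] X) 1) w
      have h1 : TensorProduct.mk T₁ C (M₁ ⊗[P₁] Y) 1 (h z) = 0 := by
        have h0 := congrArg (h.lTensor C) hs
        rw [Submonoid.smul_def, map_smul, hw, smul_zero, TensorProduct.mk_apply, LinearMap.lTensor_tmul] at h0
        exact h0.symm
      obtain ⟨t, ht⟩ := (IsLocalizedModule.eq_zero_iff Q₁.primeCompl (TensorProduct.mk T₁ C (M₁ ⊗[P₁] Y) 1)).1 h1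
      obtain ⟨t', ht', ht'z⟩ := exists_smul_eq_zero (P := P) (T := T) ι hι hfib hX' hY' g₁ hg ((t : T₁) • z) (by
        show h ((t : T₁) • z) = 0
        rw [map_smul]
        exact ht)
      have h2 : TensorProduct.mk T₁ C (M₁ ⊗[P₁] X) 1 z = 0 :=
        (IsLocalizedModule.eq_zero_iff Q₁.primeCompl _).2 ⟨⟨t', ht'⟩ * t, by
          rw [Submonoid.smul_def, Submonoid.coe_mul, mul_smul]
          exact ht'z⟩
      have h3 : (s : T₁) • w = 0 := hs.trans h2
      exact IsLocalizedModule.smul_injective (TensorProduct.mk T₁ C (M₁ ⊗[P₁] X) 1) s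
        (h3.trans (smul_zero (s : T₁)).symm)
    let e : ∀ (Z : Type u) [AddCommGroup Z] [Module B Z] [Module P₁ Z] [IsScalarTower P₁ B Z],
        C ⊗[T₁] (M₁ ⊗[P₁] Z) ≃+ Z ⊗[B] N := fun Z _ _ _ _ =>
      (AlgebraTensorModule.assoc P₁ T₁ C C M₁ Z).symm.toAddEquiv.trans
        ((IsLocalization.moduleTensorEquiv q₁.primeCompl B N Z).symm.toAddEquiv.trans
          (TensorProduct.comm B N Z).toAddEquiv)
    have he : ∀ w, e Y (h.lTensor C w) = g.rTensor N (e X w) := by
      intro w
      induction w using TensorProduct.induction_on with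
      | zero => simp
      | add v w hv hw => simp only [map_add, hv, hw]
      | tmul c v =>
        induction v using TensorProduct.induction_on with
        | zero => simp
        | add v w hv hw =>
          simp only [LinearMap.lTensor_tmul] at hv hw ⊢
          simp only [tmul_add, map_add, hv, hw]
        | tmul a x => rfl
    intro a b hab
    obtain ⟨a, rfl⟩ := (e X).surjective a
    obtain ⟨b, rfl⟩ := (e X).surjective b
    rw [← he, ← he] at hab
    exact congrArg _ (hh ((e Y).injective hab))
  have hjac : 𝔟.map (algebraMap B C) ≤ Ideal.jacobson ⊥ :=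
    (Ideal.map_mono h𝔟).trans ((map_maximalIdeal_le _).trans (maximalIdeal_le_jacobson _))
  haveI : Module.Finite C N := Module.Finite.base_change T₁ C M₁
  haveI hNB : Module.Flat B N :=
    LocalCrit.flat_of_le_jacobson (B := C) 𝔟 hjac (LocalCrit.rTensor_map_injective _) hK
  haveI : Nontrivial N := by
    by_contra hn
    haveI := not_nontrivial_iff_subsingleton.1 hn
    exact not_subsingleton M (((AlgebraTensorModule.cancelBaseChange T₁ C S' S' M₁).trans hι.equiv).symm.toEquiv.subsingleton)
  haveI hBflat : Module.Flat R₁ B := flat_of_tower (C := C) (N := N)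
  constructor
  · haveI := flat_tensor_of_isPushout R₁ R P₁ P S B
    haveI := IsLocalization.tensorProduct_compatibleSMul (A := B) q₁.primeCompl S B
    exact Module.Flat.of_linearEquiv
      (((TensorProduct.equivOfCompatibleSMul P₁ B S S B).symm.trans
        (AlgebraTensorModule.rid B S S)).restrictScalars R).symm
  · haveI : Module.Flat P₁ B := IsLocalization.flat B q₁.primeCompl
    haveI : Module.Flat P₁ N := Module.Flat.trans P₁ B N
    haveI : IsScalarTower R₁ P T := IsScalarTower.of_algebraMap_eq fun x => by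
      rw [IsScalarTower.algebraMap_apply R₁ R T, IsScalarTower.algebraMap_apply R₁ R P,
        ← IsScalarTower.algebraMap_apply R P T]
    haveI : Algebra.IsPushout P₁ P T₁ T := by
      haveI : Algebra.IsPushout R₁ P₁ R P := Algebra.IsPushout.symm inferInstance
      haveI : Algebra.IsPushout R₁ T₁ R T := Algebra.IsPushout.symm inferInstance
      exact ((Algebra.IsPushout.comp_iff (R := R₁) (S := P₁) (R' := R) (S' := P) (T := T₁) (T' := T)).1
        inferInstance).symm
    haveI := flat_tensor_of_isPushout P₁ P T₁ T S' N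
    haveI := IsLocalization.tensorProduct_compatibleSMul (A := C) Q₁.primeCompl S' N
    let eM : S' ⊗[T₁] N ≃ₗ[S'] M :=
      (TensorProduct.equivOfCompatibleSMul T₁ C S' S' N).symm.trans
        ((AlgebraTensorModule.cancelBaseChange T₁ C S' S' M₁).trans hι.equiv)
    haveI : Module.Flat P M := Module.Flat.of_linearEquiv (eM.restrictScalars P).symm
    exact (Module.flat_iff_of_isLocalization S q.primeCompl M).2 inferInstance

end Groth.Agent.Calg46.FibFlatMod
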