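import Groth.Agent.Calg46.FibFlatMod.Tensor

/-!
# Injectivity on the closed fibre descends to the model
-/

set_option autoImplicit false
set_option linter.style.haveILetI false

universe u

open TensorProduct IsLocalRing

namespace Groth.Agent.Calg46.FibFlatMod

set_option maxHeartbeats 1000000 in
/-- Injective maps of modules killed by `p` stay injective after `M₁ ⊗ -`, up to localizing at the
point of `S'`. -/
theorem exists_smul_eq_zero {R₁ R P₁ P T₁ T S S' M₁ M : Type u} [CommRing R₁] [CommRing R] [IsLocalRing R]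
    [CommRing P₁] [CommRing P] [CommRing T₁] [CommRing T] [CommRing S] [CommRing S'] [IsLocalRing S']
    [Algebra R₁ R] [Algebra R₁ P₁] [Algebra R₁ T₁] [Algebra P₁ T₁] [IsScalarTower R₁ P₁ T₁]
    [Algebra R P] [Algebra R₁ P] [Algebra P₁ P] [IsScalarTower R₁ R P] [IsScalarTower R₁ P₁ P]
    [Algebra.IsPushout R₁ R P₁ P]
    [Algebra R T] [Algebra R₁ T] [Algebra T₁ T] [IsScalarTower R₁ R T] [IsScalarTower R₁ T₁ T]
    [Algebra.IsPushout R₁ R T₁ T]
    [Algebra P S] [Algebra R S] [IsScalarTower R P S] [Algebra P₁ S] [IsScalarTower P₁ P S] [Module.Flat P S]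
    [Algebra T S'] [Algebra R S'] [IsScalarTower R T S'] [Algebra T₁ S'] [IsScalarTower T₁ T S'] [Module.Flat T S']
    [IsLocalHom (algebraMap R S')]
    [Algebra S S'] [IsScalarTower R S S'] [Algebra P₁ S'] [IsScalarTower P₁ T₁ S'] [IsScalarTower P₁ S S']
    [AddCommGroup M₁] [Module T₁ M₁] [Module P₁ M₁] [IsScalarTower P₁ T₁ M₁]
    [AddCommGroup M] [Module S' M] [Module T₁ M] [IsScalarTower T₁ S' M] [Module S M] [IsScalarTower S S' M]
    [Module R M] [IsScalarTower R S' M] [IsScalarTower R S M] [Module P₁ M] [IsScalarTower P₁ S' M] [IsScalarTower P₁ S M]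
    (ι : M₁ →ₗ[T₁] M) (hι : IsBaseChange S' ι)
    (hfib : LocalCrit.KeepsInjective ((maximalIdeal R).map (algebraMap R S)) M)
    {X Y : Type u} [AddCommGroup X] [Module P₁ X] [AddCommGroup Y] [Module P₁ Y]
    (hX : ∀ r ∈ (maximalIdeal R).comap (algebraMap R₁ R), ∀ x : X, algebraMap R₁ P₁ r • x = 0)
    (hY : ∀ r ∈ (maximalIdeal R).comap (algebraMap R₁ R), ∀ y : Y, algebraMap R₁ P₁ r • y = 0)
    (g : X →ₗ[P₁] Y) (hg : Function.Injective g) (z : M₁ ⊗[P₁] X)
    (hz : g.lTensor M₁ z = 0) :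
    ∃ t : T₁, t ∉ (maximalIdeal S').comap (algebraMap T₁ S') ∧ t • z = 0 := by
  let m := maximalIdeal R
  let k := R ⧸ m
  let Sb := S ⊗[R] k
  let L := S' ⊗[R] k
  -- move the hypothesis to `X' = Sb ⊗ X`
  let g' : Sb ⊗[P₁] X →ₗ[S] Sb ⊗[P₁] Y := AlgebraTensorModule.lTensor S Sb g
  have hg' : Function.Injective g' := lTensor_residue_injective (P := P) m hX hY g hg
  have hkill : ∀ (Z : Type u) [AddCommGroup Z] [Module P₁ Z],
      Module.IsTorsionBySet S (Sb ⊗[P₁] Z) ((maximalIdeal R).map (algebraMap R S) : Ideal S) := by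
    intro Z _ _
    rw [Module.isTorsionBySet_iff_subset_annihilator]
    refine Ideal.map_le_iff_le_comap.2 fun r hr => ?_
    rw [Ideal.mem_comap, Module.mem_annihilator]
    intro w
    induction w using TensorProduct.induction_on with
    | zero => simp
    | add v w hv hw => rw [smul_add, hv, hw, add_zero]
    | tmul v x =>
      rw [smul_tmul']
      suffices algebraMap R S r • v = 0 by rw [this, zero_tmul]
      induction v using TensorProduct.induction_on with
      | zero => simp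
      | add v w hv hw => rw [smul_add, hv, hw, add_zero]
      | tmul s c =>
        rw [smul_tmul', algebraMap_smul, smul_tmul]
        have : r • c = 0 := by
          obtain ⟨c, rfl⟩ := Ideal.Quotient.mk_surjective c
          exact (Ideal.Quotient.eq_zero_iff_mem.2 (Ideal.mul_mem_right c m hr))
        rw [this, tmul_zero]
  have h1 := @hfib (Sb ⊗[P₁] X) (Sb ⊗[P₁] Y) _ _ _ _ g' (hkill X) (hkill Y) hg'
  -- transport
  let e₀ : M ⊗[S] Sb ≃ₗ[S'] L ⊗[T₁] M₁ :=
    ((AlgebraTensorModule.cancelBaseChange R S S' M k).trans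
      (AlgebraTensorModule.congr hι.equiv.symm (LinearEquiv.refl R k))).trans
      (AlgebraTensorModule.rightComm R T₁ S' S' M₁ k)
  let Φ : ∀ (Z : Type u) [AddCommGroup Z] [Module P₁ Z],
      (Sb ⊗[P₁] Z) ⊗[S] M ≃+ L ⊗[T₁] (M₁ ⊗[P₁] Z) := fun Z _ _ =>
    (TensorProduct.comm S _ M).toAddEquiv.trans
      ((AlgebraTensorModule.assoc P₁ S S' M Sb Z).symm.toAddEquiv.trans
        ((AlgebraTensorModule.congr e₀ (LinearEquiv.refl P₁ Z)).toAddEquiv.trans
          (AlgebraTensorModule.assoc P₁ T₁ T₁ L M₁ Z).toAddEquiv))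
  let h : M₁ ⊗[P₁] X →ₗ[T₁] M₁ ⊗[P₁] Y := AlgebraTensorModule.lTensor T₁ M₁ g
  have hΦ : ∀ w, Φ Y (g'.rTensor M w) = h.lTensor L (Φ X w) := by
    intro w
    induction w using TensorProduct.induction_on with
    | zero => simp
    | add v w hv hw => simp only [map_add, hv, hw]
    | tmul v m' =>
      induction v using TensorProduct.induction_on with
      | zero => simp
      | add v w hv hw =>
        simp only [LinearMap.rTensor_tmul] at hv hw ⊢
        simp only [add_tmul, map_add, hv, hw]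
      | tmul s x =>
        have key : ∀ (Z : Type u) [AddCommGroup Z] [Module P₁ Z] (a : Z),
            Φ Z ((s ⊗ₜ a) ⊗ₜ m') = AlgebraTensorModule.assoc P₁ T₁ T₁ L M₁ Z (e₀ (m' ⊗ₜ s) ⊗ₜ a) := fun _ _ _ _ => rfl
        show Φ Y ((s ⊗ₜ g x) ⊗ₜ m') = _
        rw [key, key]
        generalize e₀ (m' ⊗ₜ s) = w
        induction w using TensorProduct.induction_on with
        | zero => simp
        | add v w hv hw => simp only [add_tmul, map_add, hv, hw]
        | tmul l a => rfl
  have hL : Function.Injective (h.lTensor L) := by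
    intro a b hab
    obtain ⟨a, rfl⟩ := (Φ X).surjective a
    obtain ⟨b, rfl⟩ := (Φ X).surjective b
    rw [← hΦ, ← hΦ] at hab
    exact congrArg _ (h1 ((Φ Y).injective hab))
  -- the annihilator of `z`
  by_contra hne
  push Not at hne
  let I : Ideal T₁ := LinearMap.ker (LinearMap.toSpanSingleton T₁ (M₁ ⊗[P₁] X) z)
  have hI : I ≤ (maximalIdeal S').comap (algebraMap T₁ S') := fun t ht => by
    by_contra h'
    exact hne t h' ht
  let j : (T₁ ⧸ I) →ₗ[T₁] M₁ ⊗[P₁] X := Submodule.liftQ I (LinearMap.toSpanSingleton T₁ _ z) le_rfl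
  have hj : Function.Injective j :=
    LinearMap.ker_eq_bot.1 (Submodule.ker_liftQ_eq_bot _ _ _ le_rfl)
  have hkillZ : ∀ r ∈ m.comap (algebraMap R₁ R), ∀ w : M₁ ⊗[P₁] X, algebraMap R₁ T₁ r • w = 0 := by
    intro r hr w
    rw [IsScalarTower.algebraMap_apply R₁ P₁ T₁, algebraMap_smul]
    induction w using TensorProduct.induction_on with
    | zero => simp
    | add v w hv hw => rw [smul_add, hv, hw, add_zero]
    | tmul a x => rw [← tmul_smul, hX r hr, tmul_zero]
  have hjL : Function.Injective (j.lTensor L) :=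
    lTensor_residue_injective (P := T) (S := S') m
      (fun r hr w => hj (by rw [map_smul, hkillZ r hr, map_zero])) hkillZ j hj
  have hzero : ((1 : S') ⊗ₜ[R] (1 : k)) ⊗ₜ[T₁] (Submodule.Quotient.mk (1 : T₁) : T₁ ⧸ I) = (0 : L ⊗[T₁] (T₁ ⧸ I)) := by
    refine hjL (hL ?_)
    rw [map_zero, map_zero, LinearMap.lTensor_tmul, LinearMap.lTensor_tmul]
    show _ ⊗ₜ[T₁] h (LinearMap.toSpanSingleton T₁ _ z 1) = 0
    rw [LinearMap.toSpanSingleton_apply_one]
    show _ ⊗ₜ[T₁] (g.lTensor M₁ z) = 0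
    rw [hz, tmul_zero]
  -- map to the residue field
  let κ := ResidueField S'
  let φk : k →ₗ[R] κ := Submodule.liftQ m (Algebra.linearMap R κ) fun r hr => by
    rw [LinearMap.mem_ker, Algebra.linearMap_apply, IsScalarTower.algebraMap_apply R S' κ,
      ResidueField.algebraMap_eq, residue_eq_zero_iff]
    exact map_maximalIdeal_le (algebraMap R S') (Ideal.mem_map_of_mem _ hr)
  let φ : L →ₗ[T₁] κ := (φk.liftBaseChange S').restrictScalars T₁
  let ψ : (T₁ ⧸ I) →ₗ[T₁] κ := Submodule.liftQ I (Algebra.linearMap T₁ κ) fun t ht => by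
    rw [LinearMap.mem_ker, Algebra.linearMap_apply, IsScalarTower.algebraMap_apply T₁ S' κ,
      ResidueField.algebraMap_eq, residue_eq_zero_iff]
    exact hI ht
  have h0 := congrArg (fun w => LinearMap.mul' T₁ κ (TensorProduct.map φ ψ w)) hzero
  simp only [map_zero, TensorProduct.map_tmul, LinearMap.mul'_apply] at h0
  rw [show φ ((1 : S') ⊗ₜ[R] (1 : k)) = 1 from by
      show φk.liftBaseChange S' _ = 1
      rw [LinearMap.liftBaseChange_tmul, one_smul]
      exact map_one (algebraMap R κ),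
    show ψ (Submodule.Quotient.mk (1 : T₁)) = 1 from map_one (algebraMap T₁ κ), mul_one] at h0
  exact one_ne_zero h0

end Groth.Agent.Calg46.FibFlatMod
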