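import Groth.Agent.Calg46.FibFlatMod.Model
import Groth.Agent.Calg46.EssFP.Criterion
import Groth.Agent.FlatModel.Open

/-!
# The fibre criterion for essentially finitely presented algebras and modules
-/

set_option autoImplicit false
set_option linter.style.haveILetI false

universe u

open TensorProduct IsLocalRing

namespace Groth.Agent.Calg46.FibFlatMod

/-- The local ring of `S₀ ⊗ S₀'` above the point maps onto `S'` with finitely generated kernel. -/
theorem surjective_and_fg_ker {R S₀ S₀' S' : Type u} [CommRing R] [CommRing S₀] [CommRing S₀'] [CommRing S']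
    [IsLocalRing S'] [Algebra R S₀] [Algebra.FiniteType R S₀] [Algebra R S₀'] [Algebra R S'] [Algebra S₀' S']
    [IsScalarTower R S₀' S'] (q' : Ideal S₀') [q'.IsPrime] [IsLocalization.AtPrime S' q']
    (f : S₀ →ₐ[R] S') (Q : Ideal (S₀ ⊗[R] S₀')) [Q.IsPrime] (μ : S₀ ⊗[R] S₀' →ₐ[R] S')
    (hμ : ∀ x b, μ (x ⊗ₜ b) = f x * algebraMap S₀' S' b) (hQ : Q = (maximalIdeal S').comap μ)
    (ν : Localization.AtPrime Q →+* S') (hν : ∀ w, ν (algebraMap _ _ w) = μ w) :
    Function.Surjective ν ∧ (RingHom.ker ν).FG := by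
  classical
  obtain ⟨l, π, hπ⟩ := Algebra.FiniteType.iff_quotient_mvPolynomial''.1 ‹Algebra.FiniteType R S₀›
  choose as has using fun i : Fin l => IsLocalization.surj q'.primeCompl (f (π (MvPolynomial.X i)))
  let L := Localization.AtPrime Q
  let η : Fin l → L := fun i => algebraMap (S₀ ⊗[R] S₀') L
    (π (MvPolynomial.X i) ⊗ₜ ((as i).2 : S₀') - 1 ⊗ₜ (as i).1)
  let I : Ideal L := Ideal.span (Set.range η)
  have hIle : I ≤ RingHom.ker ν := by
    rw [Ideal.span_le]
    rintro _ ⟨i, rfl⟩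
    rw [SetLike.mem_coe, RingHom.mem_ker, hν, map_sub, hμ, hμ, map_one, one_mul, has i, sub_self]
  let g' : S₀' →+* L ⧸ I := (Ideal.Quotient.mk I).comp ((algebraMap (S₀ ⊗[R] S₀') L).comp
    (Algebra.TensorProduct.includeRight : S₀' →ₐ[R] S₀ ⊗[R] S₀').toRingHom)
  have hg' : ∀ s : q'.primeCompl, IsUnit (g' s) := fun s => by
    show IsUnit (Ideal.Quotient.mk I (algebraMap (S₀ ⊗[R] S₀') L ((1 : S₀) ⊗ₜ[R] (s : S₀'))))
    refine IsUnit.map _ (IsLocalization.map_units L (⟨1 ⊗ₜ (s : S₀'), ?_⟩ : Q.primeCompl))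
    show (1 : S₀) ⊗ₜ (s : S₀') ∉ Q
    rw [hQ, Ideal.mem_comap, hμ, map_one, one_mul, mem_maximalIdeal, mem_nonunits_iff, not_not]
    exact IsLocalization.map_units S' s
  let j : S' →+* L ⧸ I := IsLocalization.lift (M := q'.primeCompl) (S := S') (P := L ⧸ I) (g := g') hg'
  have hj : ∀ b, j (algebraMap S₀' S' b) = g' b := fun b => IsLocalization.lift_eq hg' b
  have hgen : ∀ x : S₀, j (f x) = Ideal.Quotient.mk I (algebraMap (S₀ ⊗[R] S₀') L (x ⊗ₜ 1)) := by
    intro x
    obtain ⟨p, rfl⟩ := hπ x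
    refine RingHom.congr_fun (f := (j.comp f.toRingHom).comp π.toRingHom)
      (g := ((Ideal.Quotient.mk I).comp ((algebraMap (S₀ ⊗[R] S₀') L).comp
        (Algebra.TensorProduct.includeLeftRingHom : S₀ →+* S₀ ⊗[R] S₀'))).comp π.toRingHom)
      (MvPolynomial.ringHom_ext (fun r => ?_) fun i => ?_) p
    · show j (f (π (MvPolynomial.C r))) =
        Ideal.Quotient.mk I (algebraMap (S₀ ⊗[R] S₀') L (π (MvPolynomial.C r) ⊗ₜ[R] (1 : S₀')))
      rw [MvPolynomial.algHom_C, f.commutes, IsScalarTower.algebraMap_apply R S₀' S', hj]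
      show Ideal.Quotient.mk I (algebraMap (S₀ ⊗[R] S₀') L ((1 : S₀) ⊗ₜ[R] algebraMap R S₀' r)) = _
      rw [Algebra.algebraMap_eq_smul_one (A := S₀), Algebra.algebraMap_eq_smul_one (A := S₀'), smul_tmul]
    · show j (f (π (MvPolynomial.X i))) =
        Ideal.Quotient.mk I (algebraMap (S₀ ⊗[R] S₀') L (π (MvPolynomial.X i) ⊗ₜ[R] (1 : S₀')))
      refine (hg' (as i).2).mul_left_inj.1 ?_
      conv_lhs => rw [← hj, ← map_mul, has i, hj]
      show Ideal.Quotient.mk I (algebraMap (S₀ ⊗[R] S₀') L ((1 : S₀) ⊗ₜ[R] (as i).1)) =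
        Ideal.Quotient.mk I (algebraMap (S₀ ⊗[R] S₀') L (π (MvPolynomial.X i) ⊗ₜ[R] (1 : S₀'))) *
          Ideal.Quotient.mk I (algebraMap (S₀ ⊗[R] S₀') L ((1 : S₀) ⊗ₜ[R] ((as i).2 : S₀')))
      rw [← map_mul, ← map_mul, Algebra.TensorProduct.tmul_mul_tmul, mul_one, one_mul, eq_comm,
        Ideal.Quotient.eq, ← map_sub]
      exact Ideal.subset_span ⟨i, rfl⟩
  have hjν : j.comp ν = Ideal.Quotient.mk I := by
    refine IsLocalization.ringHom_ext Q.primeCompl (RingHom.ext fun w => ?_)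
    simp only [RingHom.comp_apply, hν]
    induction w using TensorProduct.induction_on with
    | zero => simp
    | add v w hv hw => rw [map_add, map_add, map_add, map_add, hv, hw]
    | tmul x b =>
      rw [hμ, map_mul, hgen, hj]
      show Ideal.Quotient.mk I (algebraMap (S₀ ⊗[R] S₀') L (x ⊗ₜ[R] (1 : S₀'))) *
          Ideal.Quotient.mk I (algebraMap (S₀ ⊗[R] S₀') L ((1 : S₀) ⊗ₜ[R] b)) = _
      rw [← map_mul, ← map_mul, Algebra.TensorProduct.tmul_mul_tmul, mul_one, one_mul]
  refine ⟨fun y => ?_, ⟨Finset.univ.image η, ?_⟩⟩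
  · obtain ⟨⟨b, s⟩, hbs⟩ := IsLocalization.surj q'.primeCompl y
    have hs : (1 : S₀) ⊗ₜ[R] (s : S₀') ∈ Q.primeCompl := by
      show _ ∉ Q
      rw [hQ, Ideal.mem_comap, hμ, map_one, one_mul, mem_maximalIdeal, mem_nonunits_iff, not_not]
      exact IsLocalization.map_units S' s
    refine ⟨IsLocalization.mk' L ((1 : S₀) ⊗ₜ[R] b) ⟨_, hs⟩, (IsLocalization.map_units S' s).mul_left_inj.1 ?_⟩
    rw [hbs]
    have h1 := congrArg ν (IsLocalization.mk'_spec L ((1 : S₀) ⊗ₜ[R] b) ⟨_, hs⟩)
    rw [map_mul, hν, hν, hμ, hμ, map_one, one_mul, one_mul] at h1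
    exact h1
  · rw [Finset.coe_image, Finset.coe_univ, Set.image_univ]
    refine le_antisymm hIle fun w hw => ?_
    refine (Ideal.Quotient.eq_zero_iff_mem (I := I)).1 ?_
    rw [← hjν, RingHom.comp_apply, RingHom.mem_ker.1 hw, map_zero]

set_option maxHeartbeats 1600000 in
/-- The fibre criterion of flatness for essentially finitely presented data. -/
theorem flat_and_flat {R S S' M : Type u} [CommRing R] [CommRing S] [CommRing S']
    [IsLocalRing R] [IsLocalRing S] [IsLocalRing S'] [Algebra R S] [Algebra S S'] [Algebra R S'] [IsScalarTower R S S']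
    [IsLocalHom (algebraMap R S)] [IsLocalHom (algebraMap S S')]
    (hS : CAlgX.IsEssFinitePresentation R S) (hS' : CAlgX.IsEssFinitePresentation R S')
    [AddCommGroup M] [Module S' M] [Module S M] [Module R M] [IsScalarTower S S' M] [IsScalarTower R S' M]
    [IsScalarTower R S M] [Module.FinitePresentation S' M] [Nontrivial M] [Module.Flat R M]
    (hfib : Module.Flat (S ⧸ (maximalIdeal R).map (algebraMap R S))
      (M ⧸ (maximalIdeal R).map (algebraMap R S) • (⊤ : Submodule S M))) :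
    Module.Flat R S ∧ Module.Flat S M := by
  obtain ⟨S₀, _, _, _, _, q, _, hfp, hloc, -⟩ := EssFP.exists_atPrime hS
  obtain ⟨S₀', _, _, _, _, q', _, hfp', hloc', -⟩ := EssFP.exists_atPrime hS'
  haveI := hfp; haveI := hfp'; haveI := hloc; haveI := hloc'
  let 𝔞 := (maximalIdeal R).map (algebraMap R S)
  haveI : Module.Flat (S ⧸ 𝔞) ((S ⧸ 𝔞) ⊗[S] M) := Module.Flat.of_linearEquiv
    (LinearEquiv.extendScalarsOfSurjective Ideal.Quotient.mk_surjective (TensorProduct.quotTensorEquivQuotSMul M 𝔞))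
  have hK : LocalCrit.KeepsInjective 𝔞 M := LocalCrit.keepsInjective_of_flat 𝔞 M
  haveI : IsLocalHom (algebraMap R S') := by
    rw [IsScalarTower.algebraMap_eq R S S']; exact RingHom.isLocalHom_comp _ _
  let f : S₀ →ₐ[R] S' := (IsScalarTower.toAlgHom R S S').comp (IsScalarTower.toAlgHom R S₀ S)
  let μ : S₀ ⊗[R] S₀' →ₐ[R] S' :=
    Algebra.TensorProduct.lift f (IsScalarTower.toAlgHom R S₀' S') fun _ _ => Commute.all _ _
  have hμ : ∀ x b, μ (x ⊗ₜ b) = f x * algebraMap S₀' S' b := fun x b => Algebra.TensorProduct.lift_tmul _ _ _ x b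
  let Q : Ideal (S₀ ⊗[R] S₀') := (maximalIdeal S').comap μ
  let L := Localization.AtPrime Q
  let ν : L →+* S' := IsLocalization.lift (M := Q.primeCompl) (g := μ.toRingHom)
    fun y => not_not.1 fun h => y.2 ((mem_maximalIdeal _).2 h)
  have hν : ∀ w, ν (algebraMap _ _ w) = μ w := fun w => IsLocalization.lift_eq _ w
  haveI : Algebra.FinitePresentation R (S₀ ⊗[R] S₀') :=
    Algebra.FinitePresentation.trans R S₀ (S₀ ⊗[R] S₀')
  haveI : Algebra.FiniteType R S₀ := inferInstance
  obtain ⟨hsurj, hker⟩ := surjective_and_fg_ker q' f Q μ hμ rfl ν hν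
  letI : Algebra L S' := ν.toAlgebra
  letI : Module L M := Module.compHom M ν
  haveI : IsScalarTower L S' M := .of_algebraMap_smul fun _ _ => rfl
  haveI : Module.FinitePresentation L S' :=
    Module.finitePresentation_of_surjective (Algebra.linearMap L S') hsurj hker
  haveI : Module.FinitePresentation L M := Module.FinitePresentation.trans _ M S'
  haveI : IsScalarTower R L S' := .of_algebraMap_eq fun r => by
    show _ = ν (algebraMap R L r)
    rw [IsScalarTower.algebraMap_apply R (S₀ ⊗[R] S₀') L, hν, AlgHom.commutes]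
  letI : Module (S₀ ⊗[R] S₀') M := Module.compHom M (algebraMap (S₀ ⊗[R] S₀') L)
  haveI : IsScalarTower (S₀ ⊗[R] S₀') L M := .of_algebraMap_smul fun _ _ => rfl
  obtain ⟨M₀, _, _, ℓ, hM₀, hℓ⟩ := EssFP.exists_fp_model (S₀ := S₀ ⊗[R] S₀') (S := L) Q.primeCompl M
  haveI := hM₀
  haveI := hℓ
  letI : Module R M₀ := Module.compHom M₀ (algebraMap R (S₀ ⊗[R] S₀'))
  haveI : IsScalarTower R (S₀ ⊗[R] S₀') M₀ := .of_algebraMap_smul fun _ _ => rfl
  haveI : IsScalarTower R L M := .of_algebraMap_smul fun r x => by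
    rw [← algebraMap_smul S' (algebraMap R L r), ← IsScalarTower.algebraMap_apply R L S', algebraMap_smul]
  haveI : IsScalarTower R (S₀ ⊗[R] S₀') M := .of_algebraMap_smul fun r x => by
    rw [← algebraMap_smul L (algebraMap R (S₀ ⊗[R] S₀') r), ← IsScalarTower.algebraMap_apply R (S₀ ⊗[R] S₀') L,
      algebraMap_smul]
  have hflat : Module.Flat R (LocalizedModule Q.primeCompl M₀) := by
    rw [FlatModel.flat_localized_iff Q.primeCompl (LocalizedModule.mkLinearMap _ M₀),
      ← FlatModel.flat_localized_iff Q.primeCompl ℓ]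
    infer_instance
  obtain ⟨g, hg, hW⟩ := FlatModel.exists_flat_nhd M₀ Q hflat
  let T := Localization.Away g
  haveI : Algebra.FinitePresentation (S₀ ⊗[R] S₀') T := IsLocalization.Away.finitePresentation g
  haveI : Algebra.FinitePresentation R T := Algebra.FinitePresentation.trans R (S₀ ⊗[R] S₀') T
  let N₀ := T ⊗[S₀ ⊗[R] S₀'] M₀
  haveI : Module.FinitePresentation T N₀ := inferInstance
  haveI : Module.Flat R N₀ := by
    haveI := hW (Submonoid.powers g) (Submonoid.mem_powers g)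
    exact Module.Flat.of_linearEquiv ((IsLocalizedModule.linearEquiv (Submonoid.powers g)
      (LocalizedModule.mkLinearMap (Submonoid.powers g) M₀)
      (TensorProduct.mk (S₀ ⊗[R] S₀') T M₀ 1)).restrictScalars R).symm
  let τ : T →+* L := IsLocalization.Away.lift g
    (g := algebraMap (S₀ ⊗[R] S₀') L) (IsLocalization.map_units L (⟨g, hg⟩ : Q.primeCompl))
  letI : Algebra T L := τ.toAlgebra
  haveI : IsScalarTower (S₀ ⊗[R] S₀') T L := .of_algebraMap_eq fun x => (IsLocalization.Away.lift_eq g _ x).symm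
  haveI : IsScalarTower R T L := .of_algebraMap_eq fun r => by
    rw [IsScalarTower.algebraMap_apply R (S₀ ⊗[R] S₀') L, IsScalarTower.algebraMap_apply R (S₀ ⊗[R] S₀') T,
      ← IsScalarTower.algebraMap_apply (S₀ ⊗[R] S₀') T L]
  haveI : Module.Flat (S₀ ⊗[R] S₀') L := IsLocalization.flat L Q.primeCompl
  haveI : Module.Flat T L := (Module.flat_iff_of_isLocalization T (Submonoid.powers g) L).2 inferInstance
  letI : Module T M := Module.compHom M τ
  haveI : IsScalarTower T L M := .of_algebraMap_smul fun _ _ => rfl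
  haveI : IsScalarTower (S₀ ⊗[R] S₀') T M := .of_algebraMap_smul fun x y => by
    rw [← algebraMap_smul L (algebraMap (S₀ ⊗[R] S₀') T x), ← IsScalarTower.algebraMap_apply, algebraMap_smul]
  let ι₀ : N₀ →ₗ[T] M := ℓ.liftBaseChange T
  have hι₀ : IsBaseChange L ι₀ := IsBaseChange.of_comp (TensorProduct.isBaseChange (S₀ ⊗[R] S₀') M₀ T) (by
    have h1 : (ι₀.restrictScalars (S₀ ⊗[R] S₀')).comp (TensorProduct.mk (S₀ ⊗[R] S₀') T M₀ 1) = ℓ :=
      LinearMap.ext fun x => LinearMap.liftBaseChange_one_tmul T ℓ x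
    rw [h1]
    exact (isLocalizedModule_iff_isBaseChange Q.primeCompl L ℓ).1 inferInstance)
  haveI : IsScalarTower R S₀ T := IsScalarTower.of_algebraMap_eq (R := R) (S := S₀) (A := T) fun r => by
    rw [IsScalarTower.algebraMap_apply S₀ (S₀ ⊗[R] S₀') T, IsScalarTower.algebraMap_apply R (S₀ ⊗[R] S₀') T]
    rfl
  haveI : IsScalarTower S₀ T L := IsScalarTower.of_algebraMap_eq (R := S₀) (S := T) (A := L) fun x => by
    rw [IsScalarTower.algebraMap_apply S₀ (S₀ ⊗[R] S₀') T, IsScalarTower.algebraMap_apply S₀ (S₀ ⊗[R] S₀') L,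
      ← IsScalarTower.algebraMap_apply (S₀ ⊗[R] S₀') T L]
  -- `S → L`
  let ρ₀ : S₀ →+* L := algebraMap S₀ L
  have hρ₀ : ∀ x, ν (ρ₀ x) = f x := fun x => by
    show ν (algebraMap S₀ L x) = f x
    rw [IsScalarTower.algebraMap_apply S₀ (S₀ ⊗[R] S₀') L, hν]
    show μ (x ⊗ₜ[R] (1 : S₀')) = f x
    rw [hμ, map_one, mul_one]
  haveI : IsLocalHom ν := ⟨fun w hw => by
    obtain ⟨a, s, rfl⟩ := IsLocalization.exists_mk'_eq Q.primeCompl w
    refine (IsLocalization.AtPrime.isUnit_mk'_iff L Q a s).2 ?_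
    show a ∉ Q
    intro ha
    have h1 : IsUnit (ν (IsLocalization.mk' L a s * algebraMap _ L (s : S₀ ⊗[R] S₀'))) := by
      rw [map_mul]
      exact hw.mul ((IsLocalization.map_units L s).map ν)
    rw [IsLocalization.mk'_spec, hν] at h1
    exact (mem_maximalIdeal _).1 ha h1⟩
  have hρu : ∀ y : q.primeCompl, IsUnit (ρ₀ y) := fun y => isUnit_of_map_unit ν _ (by
    rw [hρ₀]
    exact (IsLocalization.map_units S y).map (algebraMap S S'))
  letI : Algebra S L := (IsLocalization.lift hρu).toAlgebra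
  haveI : IsScalarTower S₀ S L :=
    IsScalarTower.of_algebraMap_eq (R := S₀) (S := S) (A := L) fun x => (IsLocalization.lift_eq hρu x).symm
  have hνS : ν.comp (algebraMap S L) = algebraMap S S' :=
    IsLocalization.ringHom_ext q.primeCompl (RingHom.ext fun x => by
      simp only [RingHom.comp_apply]
      rw [← IsScalarTower.algebraMap_apply S₀ S L]
      exact hρ₀ x)
  haveI : IsScalarTower S L M := .of_algebraMap_smul fun s x => by
    show ν (algebraMap S L s) • x = s • x
    rw [← RingHom.comp_apply, hνS, algebraMap_smul]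
  haveI : IsLocalHom (algebraMap S L) := ⟨fun s hs => by
    refine isUnit_of_map_unit (algebraMap S S') s ?_
    rw [← hνS]
    exact hs.map ν⟩
  haveI : IsScalarTower R S L := .of_algebraMap_eq fun r => by
    rw [IsScalarTower.algebraMap_apply R S₀ S, ← IsScalarTower.algebraMap_apply S₀ S L,
      IsScalarTower.algebraMap_apply S₀ T L, ← IsScalarTower.algebraMap_apply R S₀ T,
      ← IsScalarTower.algebraMap_apply R T L]
  haveI : IsLocalHom (algebraMap R L) := by
    rw [IsScalarTower.algebraMap_eq R S L]; exact RingHom.isLocalHom_comp _ _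
  letI : Module S₀ M := Module.compHom M (algebraMap S₀ S)
  haveI : IsScalarTower S₀ S M := .of_algebraMap_smul fun _ _ => rfl
  haveI : IsScalarTower S₀ L M := .of_algebraMap_smul fun x y => by
    rw [IsScalarTower.algebraMap_apply S₀ S L, algebraMap_smul, algebraMap_smul]
  exact flat_of_fp (P := S₀) (T := T) (S' := L) (M₀ := N₀) q ι₀ hι₀ hK

end Groth.Agent.Calg46.FibFlatMod
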