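import Groth.Agent.FlatModel.Core
import Groth.Agent.FlatApproxHx.Model

/-!
# Descent of the relations of two algebras and a flat module
-/

set_option autoImplicit false
set_option linter.style.haveILetI false

universe u

open TensorProduct MvPolynomial

namespace Groth.Agent.Calg46.FibFlatMod

open FlatModel

set_option synthInstance.maxHeartbeats 100000 in
/-- The relations of `R[x] → P`, of `R[x, y] → T` and of a flat module descend to a subring of finite type. -/
theorem exists_relations {R P T M : Type u} [CommRing R] [CommRing P] [CommRing T] [Algebra R P] [Algebra R T]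
    [AddCommGroup M] [Module T M] [Module R M] [IsScalarTower R T M] [Module.Flat R M]
    {m n a : ℕ} (r : Fin m → Fin n) (π : MvPolynomial (Fin m) R →ₐ[R] P) (π' : MvPolynomial (Fin n) R →ₐ[R] T)
    (hπ : (RingHom.ker π).FG) (hπ' : (RingHom.ker π').FG)
    (hker : ∀ x, π x = 0 → π' (rename r x) = 0)
    [Module (MvPolynomial (Fin n) R) M] [IsScalarTower R (MvPolynomial (Fin n) R) M]
    (hPM : ∀ (p : MvPolynomial (Fin n) R) (x : M), p • x = π' p • x)
    (σ : V a n R →ₗ[MvPolynomial (Fin n) R] M) (hσ : Function.Surjective σ) (hσK : (LinearMap.ker σ).FG) :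
    ∃ (R₁ : Type u) (_ : CommRing R₁) (_ : Algebra R₁ R) (F : Set (MvPolynomial (Fin m) R₁))
      (H : Set (MvPolynomial (Fin n) R₁)) (K : Submodule (MvPolynomial (Fin n) R₁) (V a n R₁)),
      IsNoetherianRing R₁ ∧
      RingHom.ker π = Ideal.span (MvPolynomial.map (algebraMap R₁ R) '' F) ∧
      RingHom.ker π' = Ideal.span (MvPolynomial.map (algebraMap R₁ R) '' H) ∧
      (∀ g ∈ F, rename r g ∈ H) ∧
      (∀ u ∈ K, σ (mapV (algebraMap R₁ R) u) = 0) ∧
      (∀ v, σ v = 0 → v ∈ Submodule.span (MvPolynomial (Fin n) R) (mapV (algebraMap R₁ R) '' K)) ∧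
      (∀ g ∈ H, ∀ v : V a n R₁, g • v ∈ K) ∧ Module.Flat R₁ (V a n R₁ ⧸ K) := by
  classical
  obtain ⟨f, hf⟩ := hπ
  obtain ⟨h, hh⟩ := hπ'
  obtain ⟨G, hG⟩ := hσK
  let c : Finset R := (G.biUnion fun v => Finset.univ.biUnion fun i => (v i).coeffs) ∪
    ((f.biUnion fun p => p.coeffs) ∪ h.biUnion fun p => p.coeffs)
  let R₀ : Subalgebra ℤ R := Algebra.adjoin ℤ (c : Set R)
  haveI : Algebra.FiniteType ℤ R₀ := (Subalgebra.fg_iff_finiteType R₀).1 (Subalgebra.fg_adjoin_finset c)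
  haveI : IsNoetherianRing R₀ := Algebra.FiniteType.isNoetherianRing ℤ R₀
  have hdesc : ∀ {l : ℕ} (p : MvPolynomial (Fin l) R), (p.coeffs : Set R) ⊆ c →
      ∃ q : MvPolynomial (Fin l) R₀, MvPolynomial.map (algebraMap R₀ R) q = p := fun p hp =>
    MvPolynomial.mem_range_map_iff_coeffs_subset.2 fun x hx => ⟨⟨x, Algebra.subset_adjoin (hp hx)⟩, rfl⟩
  have hfd : ∀ p ∈ f, ∃ q : MvPolynomial (Fin m) R₀, MvPolynomial.map (algebraMap R₀ R) q = p := fun p hp =>
    hdesc p fun x hx => Finset.mem_union_right _ (Finset.mem_union_left _ (Finset.mem_biUnion.2 ⟨p, hp, hx⟩))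
  have hhd : ∀ p ∈ h, ∃ q : MvPolynomial (Fin n) R₀, MvPolynomial.map (algebraMap R₀ R) q = p := fun p hp =>
    hdesc p fun x hx => Finset.mem_union_right _ (Finset.mem_union_right _ (Finset.mem_biUnion.2 ⟨p, hp, hx⟩))
  have hGd : ∀ v ∈ G, ∃ w : V a n R₀, mapV (algebraMap R₀ R) w = v := by
    intro v hv
    have : ∀ i, ∃ q : MvPolynomial (Fin n) R₀, MvPolynomial.map (algebraMap R₀ R) q = v i := fun i =>
      hdesc (v i) fun x hx => Finset.mem_union_left _
        (Finset.mem_biUnion.2 ⟨v, hv, Finset.mem_biUnion.2 ⟨i, Finset.mem_univ _, hx⟩⟩)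
    choose w hw using this
    exact ⟨w, funext hw⟩
  choose! lf hlf using hfd
  choose! lh hlh using hhd
  choose! lv hlv using hGd
  let F₀ : Set (MvPolynomial (Fin m) R₀) := lf '' (f : Set (MvPolynomial (Fin m) R))
  let H₀ : Set (MvPolynomial (Fin n) R₀) := lh '' (h : Set (MvPolynomial (Fin n) R)) ∪ rename r '' F₀
  have hH₀ : ∀ g ∈ H₀, π' (MvPolynomial.map (algebraMap R₀ R) g) = 0 := by
    rintro _ (⟨p, hp, rfl⟩ | ⟨_, ⟨p, hp, rfl⟩, rfl⟩)
    · rw [hlh p hp]; exact hh.le (Submodule.subset_span hp)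
    · rw [MvPolynomial.map_rename, hlf p hp]; exact hker p (hf.le (Submodule.subset_span hp))
  let K₀ : Submodule (MvPolynomial (Fin n) R₀) (V a n R₀) := Submodule.span _
    (lv '' (G : Set (V a n R)) ∪ Set.image2 (fun g i => g • (Pi.single i 1 : V a n R₀)) H₀ Set.univ)
  have hkerσ : LinearMap.ker σ = KK K₀ R := by
    apply le_antisymm
    · rw [← hG, Submodule.span_le]
      intro v hv
      exact Submodule.subset_span ⟨lv v, Submodule.subset_span (Or.inl ⟨v, hv, rfl⟩), hlv v hv⟩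
    · rw [KK, Submodule.span_le]
      rintro _ ⟨w, hw, rfl⟩
      refine Submodule.span_le.2 ?_ (mapV_mem_span (algebraMap R₀ R) hw)
      rintro _ ⟨w, (⟨v, hv, rfl⟩ | ⟨g, hg, i, -, rfl⟩), rfl⟩
      · rw [hlv v hv]
        exact hG.le (Submodule.subset_span hv)
      · rw [SetLike.mem_coe, LinearMap.mem_ker, mapV_smul, map_smul, hPM, hH₀ g hg, zero_smul]
  have hFC : FlatC K₀ R := (flatC_iff_flat K₀).2 (Module.Flat.of_linearEquiv
    ((((Submodule.quotEquivOfEq _ _ hkerσ.symm).trans (σ.quotKerEquivOfSurjective hσ))).restrictScalars R))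
  obtain ⟨R₁, hR₁, hflat⟩ := exists_fg_flatC K₀ hFC
  haveI : Algebra.FiniteType R₀ R₁ := (Subalgebra.fg_iff_finiteType R₁).1 hR₁
  haveI hN : IsNoetherianRing R₁ := Algebra.FiniteType.isNoetherianRing R₀ R₁
  have hmap : ∀ {l : ℕ} (q : MvPolynomial (Fin l) R₀),
      MvPolynomial.map (algebraMap R₁ R) (MvPolynomial.map (algebraMap R₀ R₁) q) = MvPolynomial.map (algebraMap R₀ R) q :=
    fun q => by rw [MvPolynomial.map_map, ← IsScalarTower.algebraMap_eq]
  refine ⟨R₁, inferInstance, inferInstance, MvPolynomial.map (algebraMap R₀ R₁) '' F₀,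
    MvPolynomial.map (algebraMap R₀ R₁) '' H₀, KK K₀ R₁, hN, ?_, ?_, ?_, ?_, ?_, ?_, (flatC_iff_flat K₀).1 hflat⟩
  · have : MvPolynomial.map (algebraMap R₁ R) '' (MvPolynomial.map (algebraMap R₀ R₁) '' F₀) =
        (f : Set (MvPolynomial (Fin m) R)) := by
      rw [Set.image_image, Set.image_image]
      refine (Set.image_congr fun p hp => ?_).trans (Set.image_id _)
      rw [hmap, hlf p hp]
      rfl
    rw [this]
    exact hf.symm
  · refine le_antisymm (hh.ge.trans (Submodule.span_le.2 fun p hp => ?_)) (Ideal.span_le.2 ?_)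
    · exact Ideal.subset_span ⟨_, ⟨lh p, Or.inl ⟨p, hp, rfl⟩, rfl⟩, by rw [hmap, hlh p hp]⟩
    · rintro _ ⟨_, ⟨g, hg, rfl⟩, rfl⟩
      rw [SetLike.mem_coe, RingHom.mem_ker, hmap]
      exact hH₀ g hg
  · rintro _ ⟨g, hg, rfl⟩
    exact ⟨rename r g, Or.inr ⟨g, hg, rfl⟩, MvPolynomial.map_rename _ _ _⟩
  · intro x hx
    rw [← LinearMap.mem_ker, hkerσ]
    refine Submodule.span_le.2 ?_ (mapV_mem_span (algebraMap R₁ R) hx)
    rintro _ ⟨_, ⟨w, hw, rfl⟩, rfl⟩
    rw [mapV_mapV, ← IsScalarTower.algebraMap_eq]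
    exact Submodule.subset_span ⟨w, hw, rfl⟩
  · intro v hv
    rw [← LinearMap.mem_ker, hkerσ] at hv
    refine Submodule.span_mono ?_ hv
    rintro _ ⟨w, hw, rfl⟩
    refine ⟨mapV (algebraMap R₀ R₁) w, Submodule.subset_span ⟨w, hw, rfl⟩, ?_⟩
    rw [mapV_mapV, ← IsScalarTower.algebraMap_eq]
  · rintro _ ⟨g, hg, rfl⟩ v
    rw [FlatApproxHx.single_mul_eq_smul v, Finset.smul_sum]
    refine Submodule.sum_mem _ fun i _ => ?_
    rw [smul_comm]
    refine Submodule.smul_mem _ _ (Submodule.subset_span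
      ⟨g • Pi.single i 1, Submodule.subset_span (Or.inr ⟨g, hg, i, trivial, rfl⟩), ?_⟩)
    rw [mapV_smul]
    congr 1
    ext j : 1
    rw [mapV_apply]
    by_cases hj : j = i
    · subst hj; simp
    · simp [hj]

end Groth.Agent.Calg46.FibFlatMod
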