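import Groth.Agent.Calg46.FibFlatMod.Core
import Groth.Agent.Calg46.FibFlatMod.Relations

/-!
# The fibre criterion for localizations of finitely presented algebras
-/

set_option autoImplicit false
set_option linter.style.haveILetI false

universe u

open TensorProduct IsLocalRing MvPolynomial

namespace Groth.Agent.Calg46.FibFlatMod

open FlatModel FlatApproxHx

set_option maxHeartbeats 1600000 in
set_option synthInstance.maxHeartbeats 100000 in
/-- The fibre criterion with a finitely presented module flat over the base upstairs. -/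
theorem flat_of_fp {R P T S S' M₀ M : Type u} [CommRing R] [IsLocalRing R] [CommRing P] [CommRing T]
    [CommRing S] [IsLocalRing S] [CommRing S'] [IsLocalRing S']
    [Algebra R P] [Algebra.FinitePresentation R P] [Algebra R T] [Algebra.FinitePresentation R T]
    [Algebra P T] [IsScalarTower R P T]
    (q : Ideal P) [q.IsPrime] [Algebra P S] [IsLocalization.AtPrime S q] [Algebra R S] [IsScalarTower R P S]
    [Algebra T S'] [Algebra R S'] [IsScalarTower R T S'] [Module.Flat T S'] [IsLocalHom (algebraMap R S')]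
    [Algebra S S'] [IsLocalHom (algebraMap S S')] [IsScalarTower R S S'] [Algebra P S'] [IsScalarTower P S S']
    [IsScalarTower P T S']
    [AddCommGroup M₀] [Module T M₀] [Module R M₀] [IsScalarTower R T M₀] [Module.FinitePresentation T M₀]
    [Module.Flat R M₀]
    [AddCommGroup M] [Nontrivial M] [Module S' M] [Module T M] [IsScalarTower T S' M] [Module S M]
    [IsScalarTower S S' M] [Module R M] [IsScalarTower R S' M] [IsScalarTower R S M] [Module P M]
    [IsScalarTower P S' M] [IsScalarTower P S M]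
    (ι₀ : M₀ →ₗ[T] M) (hι₀ : IsBaseChange S' ι₀)
    (hfib : LocalCrit.KeepsInjective ((maximalIdeal R).map (algebraMap R S)) M) :
    Module.Flat R S ∧ Module.Flat S M := by
  classical
  obtain ⟨m, π, hπ, hπk⟩ := Algebra.FinitePresentation.out (R := R) (A := P)
  obtain ⟨k, z, hz, -⟩ := Algebra.FinitePresentation.out (R := R) (A := T)
  let n := m + k
  let r : Fin m → Fin n := Fin.castAdd k
  let v : Fin n → T := Fin.append (fun a => algebraMap P T (π (X a))) fun b => z (X b)
  let π' : MvPolynomial (Fin n) R →ₐ[R] T := aeval v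
  have hπr : ∀ x, π' (rename r x) = algebraMap P T (π x) := by
    intro x
    show (π'.comp (rename r)) x = ((IsScalarTower.toAlgHom R P T).comp π) x
    congr 1
    ext a
    simp [π', v, r]
  have hπ' : Function.Surjective π' := by
    intro y
    obtain ⟨p, rfl⟩ := hz y
    refine ⟨rename (Fin.natAdd m) p, ?_⟩
    show (π'.comp (rename (Fin.natAdd m))) p = z p
    congr 1
    ext b
    simp [π', v]
  have hπ'k := Algebra.FinitePresentation.ker_fG_of_surjective π' hπ'
  let := π'.toRingHom.toAlgebra
  let := Module.compHom M₀ π'.toRingHom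
  haveI : IsScalarTower (MvPolynomial (Fin n) R) T M₀ := ⟨fun p s x => mul_smul (π' p) s x⟩
  haveI : IsScalarTower R (MvPolynomial (Fin n) R) M₀ := ⟨fun c p x => by
    show π' (c • p) • x = c • π' p • x
    rw [map_smul, smul_assoc]⟩
  haveI : Module.FinitePresentation (MvPolynomial (Fin n) R) T :=
    Module.finitePresentation_of_surjective (Algebra.linearMap (MvPolynomial (Fin n) R) T) hπ' hπ'k
  haveI : Module.FinitePresentation (MvPolynomial (Fin n) R) M₀ := Module.FinitePresentation.trans _ M₀ T
  obtain ⟨a, σ, hσ⟩ := Module.Finite.exists_fin' (MvPolynomial (Fin n) R) M₀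
  obtain ⟨R₁, _, _, F, H, K, hN, hF, hH, hFH, hKσ, hσK, hHK, hflat⟩ := exists_relations r π π' hπk hπ'k
    (fun x hx => by rw [hπr, hx, map_zero]) (fun _ _ => rfl) σ hσ (Module.FinitePresentation.fg_ker σ hσ)
  haveI := hN
  haveI := hflat
  let P₁ := MvPolynomial (Fin m) R₁ ⧸ Ideal.span F
  let T₁ := MvPolynomial (Fin n) R₁ ⧸ Ideal.span H
  -- the algebras over the model
  letI : Algebra R₁ P := ((algebraMap R P).comp (algebraMap R₁ R)).toAlgebra
  letI : Algebra R₁ T := ((algebraMap R T).comp (algebraMap R₁ R)).toAlgebra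
  haveI : IsScalarTower R₁ R P := .of_algebraMap_eq fun _ => rfl
  haveI : IsScalarTower R₁ R T := .of_algebraMap_eq fun _ => rfl
  letI : Algebra P₁ P := (toA π F hF).toAlgebra
  letI : Algebra T₁ T := (toA π' H hH).toAlgebra
  haveI : IsScalarTower R₁ P₁ P := .of_algebraMap_eq fun x => (toA_algebraMap π F hF x).symm
  haveI : IsScalarTower R₁ T₁ T := .of_algebraMap_eq fun x => (toA_algebraMap π' H hH x).symm
  haveI hpP : Algebra.IsPushout R₁ R P₁ P := FlatApproxHx.isPushout π hπ F hF fun _ => rfl
  haveI hpT : Algebra.IsPushout R₁ R T₁ T := FlatApproxHx.isPushout π' hπ' H hH fun _ => rfl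
  let f₁ : P₁ →+* T₁ := Ideal.quotientMap (Ideal.span H)
    (rename r : MvPolynomial (Fin m) R₁ →ₐ[R₁] MvPolynomial (Fin n) R₁).toRingHom
    (Ideal.span_le.2 fun g hg => Ideal.subset_span (hFH g hg))
  letI : Algebra P₁ T₁ := f₁.toAlgebra
  haveI : IsScalarTower R₁ P₁ T₁ := IsScalarTower.of_algebraMap_eq (R := R₁) (S := P₁) (A := T₁) fun x => by
    show _ = Ideal.Quotient.mk (Ideal.span H) (rename r (C x))
    rw [rename_C]
    rfl
  letI : Algebra P₁ T := ((algebraMap P T).comp (algebraMap P₁ P)).toAlgebra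
  haveI : IsScalarTower P₁ P T := .of_algebraMap_eq fun _ => rfl
  haveI : IsScalarTower P₁ T₁ T := .of_algebraMap_eq fun x => by
    obtain ⟨x, rfl⟩ := Ideal.Quotient.mk_surjective x
    show algebraMap P T (toA π F hF (Ideal.Quotient.mk _ x)) = toA π' H hH (Ideal.Quotient.mk _ (rename r x))
    rw [toA_mk, toA_mk, MvPolynomial.map_rename, hπr]
  -- the module over the model
  letI : Module T₁ M₀ := Module.compHom M₀ (toA π' H hH)
  haveI : IsScalarTower T₁ T M₀ := .of_algebraMap_smul fun _ _ => rfl
  have htor : Module.IsTorsionBySet (MvPolynomial (Fin n) R₁) (V a n R₁ ⧸ K) (Ideal.span H) := by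
    rw [Module.isTorsionBySet_iff_subset_annihilator]
    refine Ideal.span_le.2 fun g hg => ?_
    rw [SetLike.mem_coe, Module.mem_annihilator]
    intro x
    obtain ⟨v, rfl⟩ := Submodule.Quotient.mk_surjective _ x
    rw [← Submodule.Quotient.mk_smul, Submodule.Quotient.mk_eq_zero]
    exact hHK g hg v
  obtain ⟨mA, tA, _⟩ := torsion_structs H (V a n R₁ ⧸ K) htor
  obtain ⟨g, hfin, hbc⟩ := model_of_data π' hπ' H hH (fun _ _ => rfl) σ hσ K hKσ hσK (fun _ => rfl)
    (V a n R₁ ⧸ K) K.mkQ (Submodule.mkQ_surjective _) fun u => Submodule.Quotient.mk_eq_zero _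
  letI : Module P₁ (V a n R₁ ⧸ K) := Module.compHom _ f₁
  haveI : IsScalarTower P₁ T₁ (V a n R₁ ⧸ K) := .of_algebraMap_smul fun _ _ => rfl
  -- the structures on `S`, `S'` and `M`
  letI : Algebra P₁ S := ((algebraMap P S).comp (algebraMap P₁ P)).toAlgebra
  haveI : IsScalarTower P₁ P S := .of_algebraMap_eq fun _ => rfl
  letI : Algebra T₁ S' := ((algebraMap T S').comp (algebraMap T₁ T)).toAlgebra
  haveI : IsScalarTower T₁ T S' := .of_algebraMap_eq fun _ => rfl
  letI : Algebra P₁ S' := ((algebraMap P S').comp (algebraMap P₁ P)).toAlgebra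
  haveI : IsScalarTower P₁ P S' := .of_algebraMap_eq fun _ => rfl
  haveI : IsScalarTower P₁ T₁ S' := .of_algebraMap_eq fun x => by
    rw [IsScalarTower.algebraMap_apply P₁ P S', IsScalarTower.algebraMap_apply P T S',
      ← IsScalarTower.algebraMap_apply P₁ P T, IsScalarTower.algebraMap_apply P₁ T₁ T,
      ← IsScalarTower.algebraMap_apply T₁ T S']
  haveI : IsScalarTower P₁ S S' := .of_algebraMap_eq fun x => by
    rw [IsScalarTower.algebraMap_apply P₁ P S', IsScalarTower.algebraMap_apply P S S',
      ← IsScalarTower.algebraMap_apply P₁ P S]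
  letI : Module T₁ M := Module.compHom M (algebraMap T₁ S')
  haveI : IsScalarTower T₁ S' M := .of_algebraMap_smul fun _ _ => rfl
  haveI : IsScalarTower T₁ T M := .of_algebraMap_smul fun x y => by
    rw [← algebraMap_smul S' (algebraMap T₁ T x), ← IsScalarTower.algebraMap_apply T₁ T S', algebraMap_smul]
  letI : Module P₁ M := Module.compHom M (algebraMap P₁ S')
  haveI : IsScalarTower P₁ S' M := .of_algebraMap_smul fun _ _ => rfl
  haveI : IsScalarTower P₁ S M := .of_algebraMap_smul fun x y => by
    rw [← algebraMap_smul S' (algebraMap P₁ S x), ← IsScalarTower.algebraMap_apply P₁ S S', algebraMap_smul]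
  exact flat_of_model (R₁ := R₁) (P₁ := P₁) (T₁ := T₁) (T := T) (S' := S') (M₁ := V a n R₁ ⧸ K) q
    (ι₀.restrictScalars T₁ ∘ₗ g) (hbc.comp hι₀) hfib

end Groth.Agent.Calg46.FibFlatMod
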