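import Groth.Agent.LocalCrit.Flatness
import Mathlib

/-!
# Flatness and injectivity along pushouts and localizations
-/

set_option autoImplicit false
set_option linter.style.haveILetI false

universe u

open TensorProduct

namespace Groth.Agent.Calg46.FibFlatMod

/-- A flat change of rings preserves flatness over the base. -/
theorem flat_tensor_of_flat (R : Type u) {P : Type u} (S Y : Type u) [CommRing R] [CommRing P] [Algebra R P]
    [AddCommGroup S] [Module P S] [Module R S] [IsScalarTower R P S] [Module.Flat P S]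
    [AddCommGroup Y] [Module P Y] [Module R Y] [IsScalarTower R P Y] [Module.Flat R Y] :
    Module.Flat R (S ⊗[P] Y) := by
  rw [Module.Flat.iff_lTensor_preserves_injective_linearMap]
  intro N N' _ _ _ _ f hf
  let fY : Y ⊗[R] N →ₗ[P] Y ⊗[R] N' := AlgebraTensorModule.lTensor P Y f
  have hfY : Function.Injective fY := Module.Flat.lTensor_preserves_injective_linearMap f hf
  let e : ∀ (Q : Type u) [AddCommGroup Q] [Module R Q], (S ⊗[P] Y) ⊗[R] Q ≃ₗ[P] S ⊗[P] (Y ⊗[R] Q) :=
    fun Q _ _ => AlgebraTensorModule.assoc R P P S Y Q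
  have h1 : ∀ x, e N' (f.lTensor _ x) = fY.lTensor S (e N x) := by
    intro x
    induction x using TensorProduct.induction_on with
    | zero => simp
    | add x y hx hy => simp only [map_add, hx, hy]
    | tmul w n =>
      induction w using TensorProduct.induction_on with
      | zero => simp
      | add v w hv hw =>
        simp only [LinearMap.lTensor_tmul] at hv hw ⊢
        simp only [add_tmul, map_add, hv, hw]
      | tmul s y => rfl
  intro x y hxy
  have h2 := congrArg (e N') hxy
  rw [h1, h1] at h2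
  exact (e N).injective (Module.Flat.lTensor_preserves_injective_linearMap fY hfY h2)

/-- Flatness over the base persists under base change followed by a flat change of rings. -/
theorem flat_tensor_of_isPushout (R₁ R P₁ P S X : Type u) [CommRing R₁] [CommRing R] [CommRing P₁] [CommRing P]
    [CommRing S] [Algebra R₁ R] [Algebra R₁ P₁] [Algebra R P] [Algebra R₁ P] [Algebra P₁ P]
    [IsScalarTower R₁ R P] [IsScalarTower R₁ P₁ P] [Algebra.IsPushout R₁ R P₁ P]
    [Algebra P S] [Algebra R S] [IsScalarTower R P S] [Algebra P₁ S] [IsScalarTower P₁ P S] [Module.Flat P S]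
    [AddCommGroup X] [Module P₁ X] [Module R₁ X] [IsScalarTower R₁ P₁ X] [Module.Flat R₁ X] :
    Module.Flat R (S ⊗[P₁] X) := by
  haveI : Module.Flat R (P ⊗[P₁] X) :=
    Module.Flat.of_linearEquiv (Algebra.IsPushout.cancelBaseChange R₁ R P₁ P X)
  haveI : Module.Flat R (S ⊗[P] (P ⊗[P₁] X)) := flat_tensor_of_flat R S (P ⊗[P₁] X)
  let e : S ⊗[P] (P ⊗[P₁] X) ≃ₗ[R] S ⊗[P₁] X :=
    (AlgebraTensorModule.cancelBaseChange P₁ P S S X).restrictScalars R
  exact Module.Flat.of_linearEquiv e.symm

/-- A field containing a domain is flat over it. -/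
theorem flat_of_injective_field (D K : Type u) [CommRing D] [IsDomain D] [Field K] [Algebra D K]
    (h : Function.Injective (algebraMap D K)) : Module.Flat D K := by
  haveI : FaithfulSMul D K := (faithfulSMul_iff_algebraMap_injective D K).2 h
  letI : Algebra (FractionRing D) K := FractionRing.liftAlgebra D K
  exact Module.Flat.trans D (FractionRing D) K

/-- A field over `R` keeps maps injective between modules killed by the prime below it. -/
theorem keepsInjective_field (R K : Type u) [CommRing R] [Field K] [Algebra R K] :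
    LocalCrit.KeepsInjective (RingHom.ker (algebraMap R K)) K := by
  let p := RingHom.ker (algebraMap R K)
  haveI : p.IsPrime := RingHom.ker_isPrime _
  letI : Algebra (R ⧸ p) K := (Ideal.Quotient.lift p (algebraMap R K) fun _ h => h).toAlgebra
  haveI : IsScalarTower R (R ⧸ p) K := IsScalarTower.of_algebraMap_eq fun _ => rfl
  haveI : Module.Flat (R ⧸ p) K := flat_of_injective_field _ _
    (RingHom.lift_injective_of_ker_le_ideal p (fun _ h => h) le_rfl)
  let e : (R ⧸ p) ⊗[R] K ≃ₗ[R ⧸ p] K := LinearEquiv.extendScalarsOfSurjective Ideal.Quotient.mk_surjective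
    ((TensorProduct.quotTensorEquivQuotSMul K p).trans
      ((Submodule.quotEquivOfEq _ ⊥ (by
        refine le_bot_iff.1 (Submodule.smul_le.2 fun r hr x _ => ?_)
        rw [Submodule.mem_bot, Algebra.smul_def, RingHom.mem_ker.1 hr, zero_mul])).trans
        (Submodule.quotEquivOfEqBot ⊥ rfl)))
  haveI : Module.Flat (R ⧸ p) ((R ⧸ p) ⊗[R] K) := Module.Flat.of_linearEquiv e
  exact LocalCrit.keepsInjective_of_flat p K

/-- `(S ⊗ k) ⊗ -` keeps maps injective between modules killed by the prime of the base below `k`. -/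
theorem lTensor_residue_injective {R₁ R P₁ P S : Type u} [CommRing R₁] [CommRing R] [CommRing P₁] [CommRing P]
    [CommRing S] [Algebra R₁ R] [Algebra R₁ P₁] [Algebra R P] [Algebra R₁ P] [Algebra P₁ P]
    [IsScalarTower R₁ R P] [IsScalarTower R₁ P₁ P] [Algebra.IsPushout R₁ R P₁ P]
    [Algebra P S] [Algebra R S] [IsScalarTower R P S] [Algebra P₁ S] [IsScalarTower P₁ P S] [Module.Flat P S]
    (m : Ideal R) [m.IsMaximal] {X Y : Type u} [AddCommGroup X] [Module P₁ X] [AddCommGroup Y] [Module P₁ Y]
    (hX : ∀ r ∈ m.comap (algebraMap R₁ R), ∀ x : X, algebraMap R₁ P₁ r • x = 0)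
    (hY : ∀ r ∈ m.comap (algebraMap R₁ R), ∀ y : Y, algebraMap R₁ P₁ r • y = 0)
    (g : X →ₗ[P₁] Y) (hg : Function.Injective g) :
    Function.Injective (g.lTensor (S ⊗[R] (R ⧸ m))) := by
  letI := Ideal.Quotient.field m
  let k := R ⧸ m
  letI : Module R₁ X := Module.compHom X (algebraMap R₁ P₁)
  letI : Module R₁ Y := Module.compHom Y (algebraMap R₁ P₁)
  haveI : IsScalarTower R₁ P₁ X := .of_algebraMap_smul fun _ _ => rfl
  haveI : IsScalarTower R₁ P₁ Y := .of_algebraMap_smul fun _ _ => rfl
  let g₁ : X →ₗ[R₁] Y := g.restrictScalars R₁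
  have hker : RingHom.ker (algebraMap R₁ k) = m.comap (algebraMap R₁ R) := by
    rw [IsScalarTower.algebraMap_eq R₁ R k, ← RingHom.comap_ker, Ideal.Quotient.algebraMap_eq, Ideal.mk_ker]
  have h0 : Function.Injective (g₁.rTensor k) := keepsInjective_field R₁ k g₁
    (fun x r => by
      have hr : (r : R₁) ∈ m.comap (algebraMap R₁ R) := hker.le r.2
      exact hX _ hr x)
    (fun y r => by
      have hr : (r : R₁) ∈ m.comap (algebraMap R₁ R) := hker.le r.2
      exact hY _ hr y) hg
  -- the same map computed over `P`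
  let K := P ⊗[R] k
  let e₁ : ∀ (Z : Type u) [AddCommGroup Z] [Module P₁ Z] [Module R₁ Z] [IsScalarTower R₁ P₁ Z],
      K ⊗[P₁] Z ≃+ Z ⊗[R₁] k := fun Z _ _ _ _ =>
    ((AlgebraTensorModule.rightComm P₁ R P P k Z).toAddEquiv).trans
      (((AlgebraTensorModule.congr (Algebra.IsPushout.cancelBaseChange R₁ R P₁ P Z)
        (LinearEquiv.refl R k)).trans (TensorProduct.comm R _ k)).toAddEquiv.trans
        ((AlgebraTensorModule.cancelBaseChange R₁ R R k Z).toAddEquiv.trans
          (TensorProduct.comm R₁ k Z).toAddEquiv))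
  have he₁ : ∀ (x : K ⊗[P₁] X), e₁ Y (g.lTensor K x) = g₁.rTensor k (e₁ X x) := by
    intro x
    induction x using TensorProduct.induction_on with
    | zero => simp
    | add x y hx hy => simp only [map_add, hx, hy]
    | tmul w x =>
      induction w using TensorProduct.induction_on with
      | zero => simp
      | add v w hv hw => simp only [LinearMap.lTensor_tmul] at hv hw ⊢; simp only [add_tmul, map_add, hv, hw]
      | tmul p c =>
        obtain ⟨v, rfl⟩ : ∃ v, (Algebra.IsPushout.equiv R₁ R P₁ P) v = p := ⟨_, AlgEquiv.apply_symm_apply _ p⟩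
        induction v using TensorProduct.induction_on with
        | zero => simp
        | add v w hv hw =>
          simp only [LinearMap.lTensor_tmul] at hv hw ⊢
          simp only [map_add, add_tmul, hv, hw]
        | tmul r a =>
          have key : ∀ (Z : Type u) [AddCommGroup Z] [Module P₁ Z] [Module R₁ Z] [IsScalarTower R₁ P₁ Z] (z : Z),
              e₁ Z (((Algebra.IsPushout.equiv R₁ R P₁ P) (r ⊗ₜ a) ⊗ₜ c) ⊗ₜ z) = (a • z) ⊗ₜ (r • c) := by
            intro Z _ _ _ _ z
            have hz : ((Algebra.IsPushout.equiv R₁ R P₁ P) (r ⊗ₜ a)) ⊗ₜ[P₁] z = algebraMap R P r ⊗ₜ (a • z) := by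
              rw [Algebra.IsPushout.equiv_tmul, mul_comm, ← Algebra.smul_def, smul_tmul]
            show (TensorProduct.comm R₁ k Z) ((AlgebraTensorModule.cancelBaseChange R₁ R R k Z)
              (c ⊗ₜ[R] (Algebra.IsPushout.cancelBaseChange R₁ R P₁ P Z
                ((Algebra.IsPushout.equiv R₁ R P₁ P) (r ⊗ₜ a) ⊗ₜ[P₁] z)))) = _
            rw [hz, ← Algebra.IsPushout.cancelBaseChange_symm_tmul R₁ R P₁ P Z r (a • z),
              LinearEquiv.apply_symm_apply, AlgebraTensorModule.cancelBaseChange_tmul, TensorProduct.comm_tmul]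
          rw [LinearMap.lTensor_tmul, key, key, LinearMap.rTensor_tmul, ← map_smul]
          rfl
  have hK : Function.Injective (g.lTensor K) := by
    intro x y h
    apply (e₁ X).injective
    apply h0
    rw [← he₁, ← he₁, h]
  let gK : K ⊗[P₁] X →ₗ[P] K ⊗[P₁] Y := AlgebraTensorModule.lTensor P K g
  -- ascend to `S`
  let eS : S ⊗[P] K ≃ₗ[S] S ⊗[R] k := AlgebraTensorModule.cancelBaseChange R P S S k
  let e₂ : ∀ (Z : Type u) [AddCommGroup Z] [Module P₁ Z],
      S ⊗[P] (K ⊗[P₁] Z) ≃+ (S ⊗[R] k) ⊗[P₁] Z := fun Z _ _ =>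
    (AlgebraTensorModule.assoc P₁ P S S K Z).symm.toAddEquiv.trans
      (AlgebraTensorModule.congr eS (LinearEquiv.refl P₁ Z)).toAddEquiv
  have he₂ : ∀ x, e₂ Y (gK.lTensor S x) = g.lTensor (S ⊗[R] k) (e₂ X x) := by
    intro x
    induction x using TensorProduct.induction_on with
    | zero => simp
    | add x y hx hy => simp only [map_add, hx, hy]
    | tmul s w =>
      induction w using TensorProduct.induction_on with
      | zero => simp
      | add v w hv hw => simp only [LinearMap.lTensor_tmul] at hv hw ⊢; simp only [tmul_add, map_add, hv, hw]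
      | tmul v x => rfl
  intro x y h
  obtain ⟨x, rfl⟩ := (e₂ X).surjective x
  obtain ⟨y, rfl⟩ := (e₂ X).surjective y
  rw [← he₂, ← he₂] at h
  exact congrArg _ (Module.Flat.lTensor_preserves_injective_linearMap gK hK ((e₂ Y).injective h))

end Groth.Agent.Calg46.FibFlatMod
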